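import Mathlib

/-!
Piece (AR2) for helper16 (S0996/S0999/S4701, Brauer 1943): pure arithmetic.
-/

namespace Cfsg.Agent.Helper67.B43

theorem ar_neg (p e t n d w u h : ℕ) (hp : 2 ≤ p) (hte : t * e = p - 1) (ht : 2 ≤ t)
    (hd : d + 1 = u * p) (hw : w + e = h * p) (hprod : d * w = (1 + n * p) * e)
    (hn : 2 * n ≤ p + 1) (hn1 : 1 ≤ n) : u = 1 ∧ h * t = n + 1 := by
  -- basic positivity
  have hpe : t * e + 1 = p := by omega
  have he1 : 1 ≤ e := by
    rcases Nat.eq_zero_or_pos e with h0 | h0
    · subst h0; omega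
    · exact h0
  have hu1 : 1 ≤ u := by
    rcases Nat.eq_zero_or_pos u with h0 | h0
    · subst h0; omega
    · exact h0
  have hh1 : 1 ≤ h := by
    rcases Nat.eq_zero_or_pos h with h0 | h0
    · subst h0; omega
    · exact h0
  -- pass to the integers
  have hpZ : (p : ℤ) = t * e + 1 := by exact_mod_cast hpe.symm
  have hdZ : (d : ℤ) = u * p - 1 := by
    have : (d : ℤ) + 1 = u * p := by exact_mod_cast hd
    linarith
  have hwZ : (w : ℤ) = h * p - e := by
    have : (w : ℤ) + e = h * p := by exact_mod_cast hw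
    linarith
  have hprodZ : (d : ℤ) * w = (1 + n * p) * e := by exact_mod_cast hprod
  have hp0 : (p : ℤ) ≠ 0 := by
    have : (2 : ℤ) ≤ p := by exact_mod_cast hp
    linarith
  have heZ : (1 : ℤ) ≤ e := by exact_mod_cast he1
  have huZ : (1 : ℤ) ≤ u := by exact_mod_cast hu1
  have hhZ : (1 : ℤ) ≤ h := by exact_mod_cast hh1
  have htZ : (2 : ℤ) ≤ t := by exact_mod_cast ht
  have hnZ : 2 * (n : ℤ) ≤ p + 1 := by exact_mod_cast hn
  -- the key equation `h (u p - 1) = e (n + u)`
  have key : (h : ℤ) * (u * p - 1) = e * (n + u) := by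
    have h1 : (p : ℤ) * ((h : ℤ) * (u * p - 1) - e * (n + u)) = 0 := by
      rw [hdZ, hwZ] at hprodZ
      linear_combination hprodZ
    rcases mul_eq_zero.mp h1 with h2 | h2
    · exact absurd h2 hp0
    · linarith
  -- the case distinction
  have hu : u = 1 := by
    by_contra hne
    have hu2 : (2 : ℤ) ≤ u := by
      have : 2 ≤ u := by omega
      exact_mod_cast this
    set m : ℤ := n + u - h * u * t with hm
    have hem : (e : ℤ) * m = h * (u - 1) := by
      rw [hm]
      rw [hpZ] at key
      linear_combination -key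
    have hmpos : 0 < m := by
      by_contra hle
      rw [not_lt] at hle
      have h1 : (e : ℤ) * m ≤ 0 := mul_nonpos_of_nonneg_of_nonpos (by linarith) hle
      have h2 : 0 < (h : ℤ) * (u - 1) := mul_pos (by linarith) (by linarith)
      linarith
    have hsum : (n : ℤ) + u = m * p + h * t := by
      have h1 : (e : ℤ) * (m * p + h * t) = e * (n + u) := by
        rw [← key]
        have : (e : ℤ) * (m * p + h * t) = (e * m) * p + h * (t * e) := by ring
        rw [this, hem]
        have h3 : (t : ℤ) * e = p - 1 := by linarith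
        rw [h3]
        ring
      have he0 : (e : ℤ) ≠ 0 := by linarith
      exact (mul_left_cancel₀ he0 h1).symm
    have hht : (2 : ℤ) ≤ h * t := by nlinarith
    have hmp : (p : ℤ) ≤ m * p := by
      have hp' : (0 : ℤ) ≤ p := by exact_mod_cast Nat.zero_le p
      nlinarith
    have hhut : 2 * (u : ℤ) ≤ h * u * t := by
      have : (h : ℤ) * u * t = u * (h * t) := by ring
      rw [this]
      nlinarith
    -- `m ≥ 1` gives `n ≥ u + 1`; `hsum` gives `n + u ≥ p + 2`
    have h1 : (1 : ℤ) ≤ n + u - h * u * t := hmpos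
    linarith
  refine ⟨hu, ?_⟩
  subst hu
  have h1 : (e : ℤ) * (h * t) = e * (n + 1) := by
    have : (h : ℤ) * ((1 : ℕ) * p - 1) = e * (n + (1 : ℕ)) := key
    push_cast at this
    rw [hpZ] at this
    linear_combination this
  have he0 : (e : ℤ) ≠ 0 := by linarith
  have h2 : (h : ℤ) * t = n + 1 := mul_left_cancel₀ he0 h1
  exact_mod_cast h2

end Cfsg.Agent.Helper67.B43
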