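import Mathlib

/-!
Piece (AR8) for helper16 (S0996/S0999/S4701, Brauer 1943): pure arithmetic.
-/

namespace Cfsg.Agent.Helper67.B43

theorem ar_split_exc_neg (p e n y : ℕ) (hp : p.Prime) (he1 : 1 ≤ e) (hep : e < p)
    (hy : (y : ℤ) ≡ -e [ZMOD p]) (hdvd : y ∣ (1 + n * p) * e) :
    ∃ u h w : ℕ, y + e = u * p ∧ w + 1 = h * p ∧ y * w = (1 + n * p) * e := by
  obtain ⟨w, hw⟩ := hdvd
  have h1 : (p : ℤ) ∣ (y : ℤ) + e := by
    have h0 := hy.symm.dvd
    have : (y : ℤ) + e = (y : ℤ) - (-(e : ℤ)) := by ring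
    rw [this]
    exact h0
  have h1' : p ∣ y + e := by exact_mod_cast h1
  obtain ⟨u, hu⟩ := h1'
  have hid : e * (w + 1) + n * p * e = (y + e) * w := by
    have : (y + e) * w = y * w + e * w := by ring
    rw [this, ← hw]
    ring
  have h2 : p ∣ e * (w + 1) := by
    have ha : p ∣ e * (w + 1) + n * p * e := by
      rw [hid, hu]
      exact ⟨u * w, by ring⟩
    have hb : p ∣ n * p * e := ⟨n * e, by ring⟩
    exact (Nat.dvd_add_left hb).mp ha
  have hcop : Nat.Coprime p e :=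
    (Nat.Prime.coprime_iff_not_dvd hp).mpr (Nat.not_dvd_of_pos_of_lt he1 hep)
  have h3 : p ∣ w + 1 := hcop.dvd_of_dvd_mul_left h2
  obtain ⟨h, hh⟩ := h3
  exact ⟨u, h, w, by rw [hu, mul_comm], by rw [hh, mul_comm], hw.symm⟩

end Cfsg.Agent.Helper67.B43
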